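import Mathlib

/-!
# Groups on eighteen points with normalised subgroups of order seventeen

If every point is fixed by a normal subgroup of order seventeen of its stabiliser, the group is
transitive, nothing but the identity fixes three points, and a two-point stabiliser is cyclic of
order dividing sixteen.
-/

set_option autoImplicit false

namespace Cfsg.Agent.Recognition.LineEighteen

open MulAction

/-- the data -/
structure Line (G Ω : Type*) [Group G] [MulAction G Ω] : Prop where
  faithful : FaithfulSMul G Ω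
  card : Nat.card Ω = 18
  unipotent : ∀ a : Ω, ∃ u : G, orderOf u = 17 ∧ u • a = a ∧
    ∀ g : G, g • a = a → g * u * g⁻¹ ∈ Subgroup.zpowers u

/-- two fixed points -/
abbrev two (G : Type*) {Ω : Type*} [Group G] [MulAction G Ω] (a b : Ω) : Subgroup G :=
  stabilizer G a ⊓ stabilizer G b

variable {G Ω : Type*} [Group G] [Finite G] [MulAction G Ω] [Finite Ω]

theorem mem_two {a b : Ω} {g : G} : g ∈ two G a b ↔ g • a = a ∧ g • b = b := Iff.rfl

omit [Finite G] [Finite Ω] in
theorem smul_eq_of_sq {g : G} (hg : g * g = 1) {y : Ω} (h : g • y = y) : g⁻¹ • y = y := by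
  rw [inv_smul_eq_iff, h]

variable (hL : Line G Ω)

include hL in
/-- an element of order seventeen fixing `a` moves any other point to any other point -/
theorem Line.moves {u : G} (hu : orderOf u = 17) {a y z : Ω} (hua : u • a = a) (hy : y ≠ a)
    (hz : z ≠ a) : ∃ i : ℤ, u ^ i • y = z := by
  classical
  haveI := hL.faithful
  haveI : Fact (Nat.Prime 17) := ⟨by norm_num⟩
  set U := Subgroup.zpowers u
  have hU : Nat.card U = 17 := by rw [Nat.card_zpowers, hu]
  have hUa : ∀ v ∈ U, v • a = a := fun v hv => (Subgroup.zpowers_le.2 (show u ∈ stabilizer G a from hua)) hv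
  have key : ∀ w : Ω, Nat.card (orbit U w) = 1 ∨ Nat.card (orbit U w) = 17 := fun w => by
    have h : Nat.card (orbit U w) ∣ 17 := by
      rw [← hU, Nat.card_congr (orbitEquivQuotientStabilizer U w), ← Subgroup.index_eq_card]
      exact Subgroup.index_dvd_card _
    exact (Nat.dvd_prime (by norm_num)).1 h
  obtain ⟨x, hx⟩ : ∃ x, u • x ≠ x := by
    by_contra h
    push Not at h
    have : u = 1 := eq_of_smul_eq_smul (α := Ω) fun w => by rw [h w, one_smul]
    rw [this, orderOf_one] at hu
    norm_num at hu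
  have hx17 : Nat.card (orbit U x) = 17 := (key x).resolve_left fun h1 => hx (by
    haveI := (Nat.card_eq_one_iff_unique.1 h1).1
    exact congrArg Subtype.val (Subsingleton.elim
      (⟨_, mem_orbit x (⟨u, Subgroup.mem_zpowers u⟩ : U)⟩ : orbit U x) ⟨x, mem_orbit_self x⟩))
  have hsub : orbit U x ⊆ Set.univ \ {a} := by
    rintro _ ⟨⟨v, hv⟩, rfl⟩
    refine ⟨Set.mem_univ _, fun e => hx ?_⟩
    change v • x = a at e
    have hxa : x = a := by
      rw [← inv_smul_smul v x, e, inv_smul_eq_iff, hUa v hv]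
    rw [hxa, hua]
  have heq : orbit U x = Set.univ \ {a} := Set.eq_of_subset_of_ncard_le hsub (by
    rw [Set.ncard_sdiff_singleton_of_mem (Set.mem_univ a), Set.ncard_univ, hL.card, ← Nat.card_coe_set_eq, hx17])
  have hy' : y ∈ orbit U x := heq ▸ ⟨Set.mem_univ y, hy⟩
  have hz' : z ∈ orbit U x := heq ▸ ⟨Set.mem_univ z, hz⟩
  rw [← orbit_eq_iff.2 hy'] at hz'
  obtain ⟨⟨v, i, rfl⟩, hv⟩ := hz'
  exact ⟨i, hv⟩

include hL in
theorem Line.exists_third (a b : Ω) : ∃ c, c ≠ a ∧ c ≠ b := by
  classical
  haveI := Fintype.ofFinite Ω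
  by_contra h
  push Not at h
  have h1 : (Finset.univ : Finset Ω) ⊆ {a, b} := fun c _ => by
    by_cases hc : c = a
    · simp [hc]
    · simp [h c hc]
  have h2 := Finset.card_le_card h1
  rw [Finset.card_univ, ← Nat.card_eq_fintype_card, hL.card] at h2
  have := (Finset.card_le_two : ({a, b} : Finset Ω).card ≤ 2)
  omega

include hL in
theorem Line.pretransitive : IsPretransitive G Ω := by
  refine ⟨fun a b => ?_⟩
  by_cases hab : a = b
  · exact ⟨1, by rw [one_smul, hab]⟩
  obtain ⟨c, hca, hcb⟩ := hL.exists_third a b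
  obtain ⟨u, hu, huc, -⟩ := hL.unipotent c
  obtain ⟨i, hi⟩ := hL.moves hu huc hca.symm hcb.symm
  exact ⟨u ^ i, hi⟩

include hL in
/-- a group fixing three points is trivial -/
theorem Line.three {g : G} {a b c : Ω} (hab : a ≠ b) (hac : a ≠ c) (hbc : b ≠ c) (ha : g • a = a)
    (hb : g • b = b) (hc : g • c = c) : g = 1 := by
  haveI := hL.faithful
  obtain ⟨u, hu, hua, hun⟩ := hL.unipotent a
  obtain ⟨k, hk⟩ := Subgroup.mem_zpowers_iff.1 (hun g ha)
  have hmove : ∀ i : ℤ, g • u ^ i • b = u ^ (k * i) • b := by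
    intro i
    have h1 : g * u ^ i * g⁻¹ = u ^ (k * i) := by rw [← conj_zpow, ← hk, zpow_mul]
    calc g • u ^ i • b = (g * u ^ i * g⁻¹) • g • b := by
          rw [← mul_smul, ← mul_smul]; group
      _ = u ^ (k * i) • b := by rw [h1, hb]
  have hfree : ∀ i : ℤ, u ^ i • b = b → (17 : ℤ) ∣ i := by
    intro i hi
    by_contra hne
    have hgen : Subgroup.zpowers (u ^ i) = Subgroup.zpowers u := by
      refine Subgroup.eq_of_le_of_card_ge (Subgroup.zpowers_le.2 (Subgroup.zpow_mem_zpowers u i)) ?_
      have h1 : orderOf (u ^ i) ∣ 17 := by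
        refine orderOf_dvd_of_pow_eq_one ?_
        rw [← zpow_natCast, ← zpow_mul, mul_comm, zpow_mul, zpow_natCast, ← hu, pow_orderOf_eq_one,
          one_zpow]
      rcases (Nat.dvd_prime (by norm_num)).1 h1 with e | e
      · have h2 : (orderOf u : ℤ) ∣ i := orderOf_dvd_iff_zpow_eq_one.2 (orderOf_eq_one_iff.1 e)
        rw [hu] at h2
        exact absurd h2 hne
      · rw [Nat.card_zpowers, Nat.card_zpowers, e, hu]
    obtain ⟨j, hj⟩ := hL.moves hu hua hab.symm hac.symm
    have hstab : Subgroup.zpowers (u ^ i) ≤ stabilizer G b := Subgroup.zpowers_le.2 hi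
    rw [hgen] at hstab
    exact hbc ((hstab (Subgroup.zpow_mem_zpowers u j) : u ^ j • b = b).symm.trans hj)
  obtain ⟨i, hi⟩ := hL.moves hu hua hab.symm hac.symm
  have h17 : (17 : ℤ) ∣ k * i - i := by
    refine hfree _ ?_
    rw [zpow_sub, mul_smul]
    have : u ^ (k * i) • b = u ^ i • b := by rw [← hmove, hi, hc]
    rw [← zpow_neg]
    calc u ^ (k * i) • u ^ (-i) • b = u ^ (-i) • u ^ (k * i) • b := by
          rw [← mul_smul, ← mul_smul, ← zpow_add, ← zpow_add, add_comm]
      _ = b := by rw [this, zpow_neg, inv_smul_smul]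
  have hi0 : ¬ (17 : ℤ) ∣ i := by
    rintro ⟨m, rfl⟩
    rw [zpow_mul, show u ^ (17 : ℤ) = 1 by rw [show (17 : ℤ) = ((17 : ℕ) : ℤ) from rfl, zpow_natCast, ← hu, pow_orderOf_eq_one],
      one_zpow, one_smul] at hi
    exact hbc hi
  have hk1 : (17 : ℤ) ∣ k - 1 := by
    rw [show k * i - i = (k - 1) * i by ring] at h17
    exact ((Nat.prime_iff_prime_int.1 (by norm_num : Nat.Prime 17)).dvd_mul.1 h17).resolve_right hi0
  refine eq_of_smul_eq_smul (α := Ω) fun w => ?_
  rw [one_smul]
  by_cases hw : w = a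
  · rw [hw, ha]
  · obtain ⟨j, rfl⟩ := hL.moves hu hua hab.symm hw
    rw [hmove]
    obtain ⟨m, hm⟩ := hk1
    rw [show k * j = j + 17 * (m * j) by linear_combination j * hm, zpow_add, zpow_mul,
      show u ^ (17 : ℤ) = 1 by rw [show (17 : ℤ) = ((17 : ℕ) : ℤ) from rfl, zpow_natCast, ← hu, pow_orderOf_eq_one],
      one_zpow, mul_one]

include hL in
theorem Line.fixed_le_two {g : G} (hg : g ≠ 1) : Nat.card {y : Ω // g • y = y} ≤ 2 := by
  classical
  haveI := Fintype.ofFinite Ω
  rw [Nat.card_eq_fintype_card, Fintype.card_subtype]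
  by_contra h
  obtain ⟨a, ha, b, hb, c, hc, hab, hac, hbc⟩ := Finset.two_lt_card.1 (not_le.1 h)
  exact hg (hL.three hab hac hbc (Finset.mem_filter.1 ha).2 (Finset.mem_filter.1 hb).2 (Finset.mem_filter.1 hc).2)

include hL in
theorem Line.exists_pair {a b c d : Ω} (hab : a ≠ b) (hcd : c ≠ d) : ∃ g : G, g • a = c ∧ g • b = d := by
  haveI := hL.pretransitive
  obtain ⟨g, hg⟩ := exists_smul_eq G a c
  obtain ⟨u, hu, huc, -⟩ := hL.unipotent c
  obtain ⟨i, hi⟩ := hL.moves hu huc (y := g • b) (z := d)
    (fun e => hab (MulAction.injective g (hg.trans e.symm))) hcd.symm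
  refine ⟨u ^ i * g, ?_, ?_⟩
  · rw [mul_smul, hg]
    exact (Subgroup.zpowers_le.2 (show u ∈ stabilizer G c from huc)) (Subgroup.zpow_mem_zpowers u i)
  · rw [mul_smul, hi]

include hL in
theorem Line.card_two {a b c d : Ω} (hab : a ≠ b) (hcd : c ≠ d) :
    Nat.card (two G a b) = Nat.card (two G c d) := by
  obtain ⟨g, rfl, rfl⟩ := hL.exists_pair hab hcd
  rw [two, two, stabilizer_smul_eq_stabilizer_map_conj, stabilizer_smul_eq_stabilizer_map_conj,
    ← Subgroup.map_inf _ _ _ (MulAut.conj g).injective, Subgroup.card_map_of_injective (MulAut.conj g).injective]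

include hL in
/-- conjugation on the subgroup of order seventeen embeds a two-point stabiliser into a cyclic group -/
theorem Line.two_cyclic {a b : Ω} (hab : a ≠ b) :
    IsCyclic (two G a b) ∧ Nat.card (two G a b) ∣ 16 := by
  classical
  haveI := hL.faithful
  obtain ⟨u, hu, hua, hun⟩ := hL.unipotent a
  haveI : Fact (Nat.Prime 17) := ⟨by norm_num⟩
  choose k hk using fun g : two G a b => Subgroup.mem_zpowers_iff.1 (hun g g.2.1)
  have hcast : ∀ i j : ℤ, u ^ i = u ^ j ↔ (i : ZMod 17) = j := fun i j => by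
    rw [zpow_eq_zpow_iff_modEq, hu, ← ZMod.intCast_eq_intCast_iff]
  let f : two G a b →* ZMod 17 := MonoidHom.mk ⟨fun g => (k g : ZMod 17), by
      have h := hk 1
      rw [Subgroup.coe_one, one_mul, inv_one, mul_one] at h
      have := (hcast (k 1) 1).1 (by rw [h, zpow_one])
      simpa using this⟩ fun g g' => by
    have h : u ^ k (g * g') = u ^ (k g * k g') := by
      rw [hk, Subgroup.coe_mul, zpow_mul, hk,
        conj_zpow, hk g']
      group
    simpa using (hcast _ _).1 h
  have hf : Function.Injective f.toHomUnits := by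
    rw [← MonoidHom.ker_eq_bot_iff, Subgroup.eq_bot_iff_forall]
    intro g hg
    have h1 : (k g : ZMod 17) = 1 := congrArg Units.val (MonoidHom.mem_ker.1 hg)
    have hcomm : (g : G) * u * (g : G)⁻¹ = u := by
      rw [← hk g, (hcast (k g) 1).2 (by simpa using h1), zpow_one]
    refine Subtype.ext (eq_of_smul_eq_smul (α := Ω) fun w => ?_)
    rw [Subgroup.coe_one, one_smul]
    by_cases hw : w = a
    · rw [hw]; exact g.2.1
    · obtain ⟨j, rfl⟩ := hL.moves hu hua hab.symm hw
      have hc : Commute (g : G) (u ^ j) :=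
        (show Commute (g : G) u from mul_inv_eq_iff_eq_mul.1 hcomm).zpow_right j
      rw [← mul_smul, hc.eq, mul_smul, (g.2.2 : (g : G) • b = b)]
  refine ⟨isCyclic_of_injective _ hf, ?_⟩
  have h := Subgroup.card_dvd_of_injective _ hf
  rwa [Nat.card_units, Nat.card_zmod] at h

include hL in
theorem Line.card_stabilizer {a b : Ω} (hab : a ≠ b) :
    Nat.card (stabilizer G a) = 17 * Nat.card (two G a b) := by
  classical
  obtain ⟨u, hu, hua, -⟩ := hL.unipotent a
  have hK : stabilizer (stabilizer G a) b = (two G a b).subgroupOf (stabilizer G a) := by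
    ext g
    exact ⟨fun h => ⟨g.2, h⟩, fun h => h.2⟩
  have horb : orbit (stabilizer G a) b = Set.univ \ {a} := by
    ext y
    constructor
    · rintro ⟨g, rfl⟩
      refine ⟨Set.mem_univ _, fun e => hab ?_⟩
      exact (MulAction.injective (g : G) ((show (g : G) • b = a from e).trans g.2.symm)).symm
    · rintro ⟨-, hy⟩
      obtain ⟨i, hi⟩ := hL.moves hu hua hab.symm hy
      exact ⟨⟨u ^ i, (Subgroup.zpowers_le.2 (show u ∈ stabilizer G a from hua))
        (Subgroup.zpow_mem_zpowers u i)⟩, hi⟩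
  have h := Subgroup.card_mul_index (stabilizer (stabilizer G a) b)
  rw [MulAction.index_stabilizer, horb, Set.ncard_sdiff_singleton_of_mem (Set.mem_univ a), Set.ncard_univ,
    hL.card, hK, Nat.card_congr (Subgroup.subgroupOfEquivOfLe (show two G a b ≤ stabilizer G a from
      inf_le_left)).toEquiv] at h
  omega

include hL in
theorem Line.card_group {a b : Ω} (hab : a ≠ b) : Nat.card G = 306 * Nat.card (two G a b) := by
  haveI := hL.pretransitive
  have h := (stabilizer G a).card_mul_index
  rw [index_stabilizer_of_transitive, hL.card, hL.card_stabilizer hab] at h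
  omega

end Cfsg.Agent.Recognition.LineEighteen
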