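import Mathlib
import Cfsg.Agent.S0732
import Cfsg.Agent.Recognition.LineEighteen.Perm

/-!
# Groups on eighteen points: identification and Sylow numbers
-/

set_option autoImplicit false

namespace Cfsg.Agent.Recognition.LineEighteen

open MulAction

/-- an element of order nine modulo the centre -/
theorem orderOf_eq_nine {Γ Δ : Type*} [Group Γ] [Group Δ] (f : Γ →* Δ)
    (hf : f.ker = Subgroup.center Γ) {g z : Γ} (h9 : g ^ 9 = 1) (hz : g ^ 3 * z ≠ z * g ^ 3) :
    orderOf (f g) = 9 := by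
  haveI : Fact (Nat.Prime 3) := ⟨Nat.prime_three⟩
  refine orderOf_eq_prime_pow (p := 3) (n := 1) (fun e => hz ?_) ?_
  · rw [← map_pow, ← MonoidHom.mem_ker, hf, Subgroup.mem_center_iff] at e
    simpa using (e z).symm
  · rw [show (3 : ℕ) ^ (1 + 1) = 9 from rfl, ← map_pow, h9, map_one]

/-- an element of order nine in `PSL(2,17)` -/
theorem psl_nine :
    ∃ g : Matrix.ProjectiveSpecialLinearGroup (Fin 2) (ZMod 17), orderOf g = 9 := by
  let m : Matrix.SpecialLinearGroup (Fin 2) (ZMod 17) := ⟨!![0, -1; 1, 7], by decide⟩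
  let z : Matrix.SpecialLinearGroup (Fin 2) (ZMod 17) := ⟨!![1, 1; 0, 1], by decide⟩
  exact ⟨_, orderOf_eq_nine (QuotientGroup.mk' (Subgroup.center _)) (QuotientGroup.ker_mk' _)
    (g := m) (z := z) (by decide +kernel) (by decide +kernel)⟩

variable {G Ω : Type*} [Group G] [Finite G] [MulAction G Ω] [Finite Ω]
variable (hL : Line G Ω)

include hL in
/-- the identification -/
theorem Line.iso {a b : Ω} (hab : a ≠ b) :
    (Nat.card (two G a b) = 8 ∧
      Nonempty (G ≃* Matrix.ProjectiveSpecialLinearGroup (Fin 2) (ZMod 17))) ∨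
    (Nat.card (two G a b) = 16 ∧
      Nonempty (G ≃* Matrix.ProjGenLinGroup (Fin 2) (ZMod 17))) := by
  classical
  haveI := hL.faithful
  haveI := Fintype.ofFinite Ω
  haveI := hL.pretransitive
  set H := (toPermHom G Ω).range with hH
  let e : G ≃* H := MonoidHom.ofInjective (f := toPermHom G Ω) MulAction.toPerm_injective
  haveI : IsPretransitive H Ω := ⟨fun x y => by
    obtain ⟨g, hg⟩ := exists_smul_eq G x y
    exact ⟨e g, hg⟩⟩
  have h16 := Nat.le_of_dvd (by norm_num) (hL.two_cyclic hab).2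
  rcases S0732.result (p := 17) (d := Nat.card (two G a b)) (by norm_num)
    (by rw [← Nat.card_eq_fintype_card, hL.card]) H
    (by rw [← Nat.card_congr e.toEquiv, hL.card_group hab]) (by omega) with
    ⟨hd, ⟨f⟩⟩ | ⟨hd, ⟨f⟩⟩ | ⟨q, -, hq, -⟩
  · exact Or.inr ⟨by omega, ⟨e.trans f⟩⟩
  · exact Or.inl ⟨by omega, ⟨e.trans f⟩⟩
  · exact absurd (Nat.prime_three.dvd_of_dvd_pow (show 3 ∣ 2 ^ q from hq ▸ (by norm_num))) (by norm_num)

include hL in
theorem Line.exists_nine {a b : Ω} (hab : a ≠ b) : ∃ g : G, orderOf g = 9 := by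
  obtain ⟨x, hx⟩ := psl_nine
  rcases hL.iso hab with ⟨-, ⟨e⟩⟩ | ⟨-, ⟨e⟩⟩
  · exact ⟨e.symm x, by rw [MulEquiv.orderOf_eq, hx]⟩
  · exact ⟨e.symm (Matrix.ProjectiveSpecialLinearGroup.toPGL x), by
      rw [MulEquiv.orderOf_eq,
        orderOf_injective _ Matrix.ProjectiveSpecialLinearGroup.toPGL_injective, hx]⟩

include hL in
/-- the Sylow 2-subgroups are self-normalising setwise stabilisers of pairs -/
theorem Line.card_sylow_two {a b : Ω} (hab : a ≠ b) : Nat.card (Sylow 2 G) = 153 := by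
  classical
  haveI : Fact (Nat.Prime 2) := ⟨Nat.prime_two⟩
  obtain ⟨k, hk, hh⟩ : ∃ k, 3 ≤ k ∧ Nat.card (two G a b) = 2 ^ k := by
    rcases hL.iso hab with ⟨h, -⟩ | ⟨h, -⟩
    · exact ⟨3, le_rfl, h⟩
    · exact ⟨4, by norm_num, h⟩
  let D : Subgroup G :=
    { carrier := {g | g • a = a ∧ g • b = b ∨ g • a = b ∧ g • b = a}
      one_mem' := Or.inl ⟨one_smul _ _, one_smul _ _⟩
      mul_mem' := by
        rintro g g' (⟨h1, h2⟩ | ⟨h1, h2⟩) (⟨h3, h4⟩ | ⟨h3, h4⟩) <;>
          simp [mul_smul, h1, h2, h3, h4]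
      inv_mem' := by
        rintro g (⟨h1, h2⟩ | ⟨h1, h2⟩) <;> simp [inv_smul_eq_iff, h1, h2] }
  have hmem : ∀ g : G, g ∈ D ↔ (g • a = a ∧ g • b = b ∨ g • a = b ∧ g • b = a) := fun _ => Iff.rfl
  have hle : two G a b ≤ D := fun g hg => (hmem g).2 (Or.inl hg)
  have hD : Nat.card D = 2 * 2 ^ k := by
    obtain ⟨s, hs1, hs2⟩ := hL.exists_pair hab hab.symm
    have hs : s ∈ D := (hmem s).2 (Or.inr ⟨hs1, hs2⟩)
    have h := ((two G a b).subgroupOf D).card_mul_index
    rw [Nat.card_congr (Subgroup.subgroupOfEquivOfLe hle).toEquiv, hh,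
      Subgroup.index_eq_two_iff.2 ⟨⟨s, hs⟩, ?_⟩] at h
    · omega
    rintro ⟨g, hg⟩
    simp only [Subgroup.mem_subgroupOf, Subgroup.coe_mul]
    rcases (hmem g).1 hg with hg' | ⟨h1, h2⟩
    · refine Or.inr ⟨hg', fun h => hab ?_⟩
      have h' : s • a = a := (((two G a b).mul_mem_cancel_left hg').1 h).1
      exact h'.symm.trans hs1
    · refine Or.inl ⟨⟨?_, ?_⟩, fun h => hab ?_⟩
      · show (g * s) • a = a
        rw [mul_smul, hs1, h2]
      · show (g * s) • b = b
        rw [mul_smul, hs2, h1]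
      · have h' : g • a = a := h.1
        exact h'.symm.trans h1
  have hfac : (Nat.card G).factorization 2 = k + 1 := by
    rw [hL.card_group hab, hh, show 306 * 2 ^ k = 153 * 2 ^ (k + 1) by ring,
      Nat.factorization_mul (by norm_num) (by positivity), Nat.Prime.factorization_pow Nat.prime_two,
      Finsupp.add_apply, Finsupp.single_eq_same,
      Nat.factorization_eq_zero_of_not_dvd (by norm_num), zero_add]
  let S : Sylow 2 G := Sylow.ofCard D (by rw [hfac, hD]; ring)
  have hN : Subgroup.normalizer (D : Set G) = D := by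
    refine le_antisymm (fun n hn => ?_) Subgroup.le_normalizer
    set T := two G a b
    set T' := T.map (MulAut.conj n).toMonoidHom
    have hT' : T' ≤ D := by
      rintro _ ⟨t, ht, rfl⟩
      exact ((Subgroup.mem_normalizer_iff.1 hn) t).1 (hle ht)
    have hne : ¬ T ⊓ T' ≤ ⊥ := by
      intro h
      have hinj : Function.Injective (fun p : T × T' => (⟨(p.1 : G) * p.2,
          mul_mem (hle p.1.2) (hT' p.2.2)⟩ : D)) := by
        rintro ⟨x, y⟩ ⟨x', y'⟩ e
        exact Subgroup.mul_injective_of_disjoint (disjoint_iff_inf_le.2 h) (congrArg Subtype.val e)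
      have hc := Nat.card_le_card_of_injective _ hinj
      rw [Nat.card_prod, Subgroup.card_map_of_injective (MulAut.conj n).injective, hD, hh] at hc
      have : 2 < 2 ^ k := lt_of_lt_of_le (by norm_num) (Nat.pow_le_pow_right two_pos hk)
      nlinarith
    obtain ⟨z, ⟨hz, hz'⟩, hz1⟩ : ∃ z, z ∈ T ⊓ T' ∧ z ≠ 1 := by
      by_contra hall
      exact hne fun z hz => Subgroup.mem_bot.2 (by_contra fun h1 => hall ⟨z, hz, h1⟩)
    obtain ⟨t, ht, rfl⟩ := hz'
    simp only [MulEquiv.coe_toMonoidHom, MulAut.conj_apply] at hz hz1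
    have key : ∀ y : Ω, t • y = y → n • y = a ∨ n • y = b := by
      intro y hy
      by_contra hno
      push Not at hno
      exact hz1 (hL.three hab hno.1.symm hno.2.symm hz.1 hz.2
        (by rw [mul_smul, mul_smul, inv_smul_smul, hy]))
    refine (hmem n).2 ?_
    rcases key a ht.1 with h1 | h1 <;> rcases key b ht.2 with h2 | h2
    · exact absurd (MulAction.injective n (h1.trans h2.symm)) hab
    · exact Or.inl ⟨h1, h2⟩
    · exact Or.inr ⟨h1, h2⟩
    · exact absurd (MulAction.injective n (h1.trans h2.symm)) hab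
  have hS := S.card_eq_index_normalizer
  change Nat.card (Sylow 2 G) = (Subgroup.normalizer (D : Set G)).index at hS
  rw [hN] at hS
  have h := D.card_mul_index
  rw [hD, hL.card_group hab, hh, ← hS] at h
  exact Nat.eq_of_mul_eq_mul_left (show 0 < 2 * 2 ^ k by positivity) (by rw [h]; ring)

include hL in
/-- the number of Sylow 3-subgroups, if it divides 136 -/
theorem Line.card_sylow_three {a b : Ω} (hab : a ≠ b) (hdvd : Nat.card (Sylow 3 G) ∣ 136) :
    Nat.card (Sylow 3 G) = 136 := by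
  classical
  haveI : Fact (Nat.Prime 3) := ⟨Nat.prime_three⟩
  obtain ⟨x, hx⟩ := hL.exists_nine hab
  obtain ⟨k, hk, hh⟩ : ∃ k, (k = 3 ∨ k = 4) ∧ Nat.card (two G a b) = 2 ^ k := by
    rcases hL.iso hab with ⟨h, -⟩ | ⟨h, -⟩
    · exact ⟨3, Or.inl rfl, h⟩
    · exact ⟨4, Or.inr rfl, h⟩
  set R := Subgroup.zpowers x with hR
  have hcR : Nat.card R = 9 := by rw [Nat.card_zpowers, hx]
  have hfac : (Nat.card G).factorization 3 = 2 := by
    rw [hL.card_group hab, hh, show 306 * 2 ^ k = 34 * 2 ^ k * 3 ^ 2 by ring,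
      Nat.factorization_mul (by positivity) (by norm_num), Nat.Prime.factorization_pow Nat.prime_three,
      Finsupp.add_apply, Finsupp.single_eq_same, Nat.factorization_eq_zero_of_not_dvd, zero_add]
    intro h
    rcases (Nat.prime_three.dvd_mul).1 h with h | h
    · norm_num at h
    · exact absurd (Nat.prime_three.dvd_of_dvd_pow h) (by norm_num)
  let S : Sylow 3 G := Sylow.ofCard R (by rw [hfac, hcR]; rfl)
  -- the centraliser acts freely
  set C := Subgroup.centralizer (R : Set G)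
  have hx3 : ∀ i : ℕ, i < 3 → 0 < i → ¬ x ^ i • a = a := by
    intro i hi hi0 e
    have h1 : orderOf (x ^ i) = 9 := by
      rw [orderOf_pow' x (by omega), hx]
      interval_cases i <;> rfl
    have h2 : 9 ∣ 17 * 2 ^ k := by
      rw [← hh, ← hL.card_stabilizer hab, ← h1]
      exact (dvd_of_eq (Subgroup.orderOf_coe (⟨x ^ i, e⟩ : stabilizer G a))).trans (orderOf_dvd_natCard _)
    rcases hk with rfl | rfl <;> norm_num at h2
  have hC : Nat.card C ≤ 18 := by
    rw [← hL.card]
    refine Nat.card_le_card_of_injective (fun c : C => (c : G) • a) fun c c' e => ?_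
    have hcc : ((c' : G)⁻¹ * (c : G)) • a = a := by rw [mul_smul, inv_smul_eq_iff]; exact e
    have hcom : ∀ i : ℕ, ((c' : G)⁻¹ * (c : G)) • x ^ i • a = x ^ i • a := fun i => by
      rw [← mul_smul, ← (mul_mem (inv_mem c'.2) c.2 : ((c' : G)⁻¹ * (c : G)) ∈ C) (x ^ i)
        (Subgroup.pow_mem _ (Subgroup.mem_zpowers x) i), mul_smul, hcc]
    refine Subtype.ext (inv_mul_eq_one.1 (hL.three (a := a) (b := x ^ 1 • a) (c := x ^ 2 • a)
      (Ne.symm (hx3 1 (by norm_num) (by norm_num))) (Ne.symm (hx3 2 (by norm_num) (by norm_num)))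
      ?_ hcc (hcom 1) (hcom 2))).symm
    rw [pow_succ x 1, mul_smul]
    intro h
    exact hx3 1 (by norm_num) (by norm_num) (by
      have := MulAction.injective (x ^ 1) h
      rw [pow_one]; exact this.symm)
  have hRC : 9 ∣ Nat.card C := by
    rw [← hcR]
    refine Subgroup.card_dvd_of_le fun y hy z hz => ?_
    obtain ⟨i, rfl⟩ := hy
    obtain ⟨j, rfl⟩ := hz
    exact ((Commute.refl x).zpow_zpow j i).eq
  have hC18 : Nat.card C ∣ 18 := by
    obtain ⟨m, hm⟩ := hRC
    have := Nat.card_pos (α := C)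
    have : m ≤ 2 := by omega
    interval_cases m <;> simp_all
  have hN : Nat.card (Subgroup.normalizer (R : Set G)) ∣ 108 := by
    have hk1 : Nat.card R.normalizerMonoidHom.ker ∣ 18 := by
      rw [Subgroup.normalizerMonoidHom_ker, Nat.card_congr (Subgroup.subgroupOfEquivOfLe
        (Subgroup.centralizer_le_normalizer _)).toEquiv]
      exact hC18
    have h6 : Nat.card (MulAut R) = 6 := by
      haveI : IsCyclic R := inferInstance
      rw [Nat.card_congr (IsCyclic.mulAutMulEquiv R).toEquiv, Nat.card_eq_fintype_card,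
        ZMod.card_units_eq_totient, hcR]
      rfl
    rw [← R.normalizerMonoidHom.ker.card_mul_index, Subgroup.index_ker, show (108 : ℕ) = 18 * 6 from rfl]
    exact mul_dvd_mul hk1 (h6 ▸ Subgroup.card_subgroup_dvd_card _)
  have hS := S.card_eq_index_normalizer
  change Nat.card (Sylow 3 G) = (Subgroup.normalizer (R : Set G)).index at hS
  have h := (Subgroup.normalizer (R : Set G)).card_mul_index
  rw [← hS, hL.card_group hab, hh] at h
  have hmod : Nat.card (Sylow 3 G) % 3 = 1 := card_sylow_modEq_one 3 G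
  generalize Nat.card (Sylow 3 G) = n at h hdvd hmod ⊢
  generalize Nat.card (Subgroup.normalizer (R : Set G)) = N at h hN
  have key : ∀ m ∈ Nat.divisors 136, m % 3 = 1 → ∀ N ∈ Nat.divisors 108, ∀ h ∈ [8, 16],
      N * m = 306 * h → m = 136 := by decide +kernel
  exact key n (Nat.mem_divisors.2 ⟨hdvd, by norm_num⟩) hmod N (Nat.mem_divisors.2 ⟨hN, by norm_num⟩)
    (2 ^ k) (by rcases hk with rfl | rfl <;> simp) h

end Cfsg.Agent.Recognition.LineEighteen
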