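import Mathlib
import Cfsg.Agent.Lib.Cores.Nilpotent
import Cfsg.Agent.Recognition.LineEighteen.Iso

/-!
# The action on eighteen Sylow 17-subgroups of a group with the Sylow numbers of `PSL(2,17)`
-/

set_option autoImplicit false

namespace Cfsg.Agent.Recognition.LineEighteen

open MulAction

variable {G : Type*} [Group G] [Finite G]

theorem sylow_eq_of_le_normalizer {p : ℕ} [Fact p.Prime] {P Q : Sylow p G}
    (h : (P : Subgroup G) ≤ Subgroup.normalizer (Q : Set G)) : P = Q := by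
  have h1 : (P : Subgroup G) ≤ Q :=
    (le_inf le_rfl h).trans ((P.isPGroup'.inf_normalizer_sylow Q).le.trans inf_le_right)
  exact Sylow.ext (P.is_maximal' Q.isPGroup' h1).symm

theorem eq_of_mem_primes {r : ℕ} {n : ℕ} (hr : r.Prime) (hn : n % r = 1) :
    (n = 18 → r = 17) ∧ (n = 136 → r = 3 ∨ r = 5) ∧ (n = 153 → r = 2 ∨ r = 19) := by
  have hd : n ≠ 0 → r ∈ (n - 1).primeFactors ∨ n = 1 := fun h0 => by
    by_cases h1 : n = 1
    · exact Or.inr h1
    refine Or.inl (Nat.mem_primeFactors.2 ⟨hr, ?_, by omega⟩)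
    exact (Nat.modEq_iff_dvd' (by omega)).1 (show 1 ≡ n [MOD r] by
      rw [Nat.ModEq, hn, Nat.mod_eq_of_lt hr.one_lt])
  refine ⟨?_, ?_, ?_⟩ <;> rintro rfl
  · rcases hd (by norm_num) with h | h
    · simpa [show (17 : ℕ).primeFactors = {17} from Nat.Prime.primeFactors (by norm_num)] using h
    · norm_num at h
  · rcases hd (by norm_num) with h | h
    · obtain ⟨-, h, -⟩ := Nat.mem_primeFactors.1 h
      rw [show 136 - 1 = 3 ^ 3 * 5 from rfl] at h
      rcases hr.dvd_mul.1 h with h | h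
      · exact Or.inl ((Nat.prime_dvd_prime_iff_eq hr Nat.prime_three).1 (hr.dvd_of_dvd_pow h))
      · exact Or.inr ((Nat.prime_dvd_prime_iff_eq hr (by norm_num)).1 h)
    · norm_num at h
  · rcases hd (by norm_num) with h | h
    · obtain ⟨-, h, -⟩ := Nat.mem_primeFactors.1 h
      rw [show 153 - 1 = 2 ^ 3 * 19 from rfl] at h
      rcases hr.dvd_mul.1 h with h | h
      · exact Or.inl ((Nat.prime_dvd_prime_iff_eq hr Nat.prime_two).1 (hr.dvd_of_dvd_pow h))
      · exact Or.inr ((Nat.prime_dvd_prime_iff_eq hr (by norm_num)).1 h)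
    · norm_num at h

/-- the Sylow numbers -/
theorem sylow_numbers
    (hNS : {c : ℕ | ∃ r : ℕ, r.Prime ∧ r ∣ Nat.card G ∧ c = Nat.card (Sylow r G)} =
      ({18, 136, 153} : Set ℕ)) :
    Nat.card (Sylow 17 G) = 18 ∧ Nat.card (Sylow 2 G) = 153 ∧ Nat.card (Sylow 3 G) = 136 ∧
      ∀ r : ℕ, r.Prime → r ∣ Nat.card G → r = 2 ∨ r = 3 ∨ r = 17 ∨ (r = 5 ∨ r = 19) ∧
        17 ∣ Nat.card (Sylow r G) ∧ Nat.card (Sylow r G) ≤ 153 := by
  have hmod : ∀ {r : ℕ}, r.Prime → Nat.card (Sylow r G) % r = 1 := fun {r} hr => by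
    haveI := Fact.mk hr
    exact Eq.trans (card_sylow_modEq_one r G : Nat.card (Sylow r G) % r = 1 % r) (Nat.mod_eq_of_lt hr.one_lt)
  have hmem : ∀ r : ℕ, r.Prime → r ∣ Nat.card G → Nat.card (Sylow r G) = 18 ∨
      Nat.card (Sylow r G) = 136 ∨ Nat.card (Sylow r G) = 153 := fun r hr hd => by
    have h : Nat.card (Sylow r G) ∈ ({18, 136, 153} : Set ℕ) := hNS ▸ ⟨r, hr, hd, rfl⟩
    simpa using h
  obtain ⟨r, hr, hd, h18⟩ : 18 ∈ {c : ℕ | ∃ r : ℕ, r.Prime ∧ r ∣ Nat.card G ∧ c = Nat.card (Sylow r G)} :=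
    hNS ▸ (by simp)
  obtain rfl := (eq_of_mem_primes hr (hmod hr)).1 h18.symm
  have hdiv : 18 ∣ Nat.card G := by
    haveI := Fact.mk hr
    obtain ⟨P⟩ : Nonempty (Sylow 17 G) := inferInstance
    exact h18 ▸ P.card_dvd_index.trans (Subgroup.index_dvd_card _)
  refine ⟨h18.symm, ?_, ?_, fun s hs hsd => ?_⟩
  · have h := hmod Nat.prime_two
    rcases hmem 2 Nat.prime_two ((by norm_num : 2 ∣ 18).trans hdiv) with e | e | e <;> omega
  · have h := hmod Nat.prime_three
    rcases hmem 3 Nat.prime_three ((by norm_num : 3 ∣ 18).trans hdiv) with e | e | e <;> omega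
  · obtain ⟨h1, h2, h3⟩ := eq_of_mem_primes hs (hmod hs)
    rcases hmem s hs hsd with e | e | e
    · exact Or.inr (Or.inr (Or.inl (h1 e)))
    · rcases h2 e with rfl | rfl
      · exact Or.inr (Or.inl rfl)
      · exact Or.inr (Or.inr (Or.inr ⟨Or.inl rfl, by rw [e]; norm_num, by omega⟩))
    · rcases h3 e with rfl | rfl
      · exact Or.inl rfl
      · exact Or.inr (Or.inr (Or.inr ⟨Or.inr rfl, by rw [e]; norm_num, by omega⟩))

/-- the image of the action on the Sylow 17-subgroups -/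
theorem line_image [Fact (Nat.Prime 17)] (h18 : Nat.card (Sylow 17 G) = 18) :
    Line (toPermHom G (Sylow 17 G)).range (Sylow 17 G) := by
  classical
  refine ⟨inferInstance, h18, fun P => ?_⟩
  set f := (toPermHom G (Sylow 17 G)).rangeRestrict
  set U := (P : Subgroup G).map f
  haveI hU : Fact (Nat.card U = 17) := by
    refine ⟨?_⟩
    obtain ⟨j, hj⟩ := IsPGroup.iff_card.1 (P.isPGroup'.map f)
    have hd : 17 ^ j ∣ Nat.factorial 18 := by
      rw [← hj, ← h18, ← Nat.card_perm]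
      exact (U.card_subgroup_dvd_card).trans (Subgroup.card_subgroup_dvd_card _)
    have h2 : j ≤ 1 := by
      by_contra hj2
      exact absurd ((pow_dvd_pow 17 (show 2 ≤ j by omega)).trans hd) (by decide)
    interval_cases j
    · exfalso
      have hker : ∀ Q : Sylow 17 G, P = Q := fun Q => by
        refine sylow_eq_of_le_normalizer fun g hg => Sylow.smul_eq_iff_mem_normalizer.1 ?_
        have h1 : U = ⊥ := Subgroup.eq_bot_of_card_eq _ (by rw [hj, pow_zero])
        have h2 : f g ∈ U := Subgroup.mem_map_of_mem f hg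
        rw [h1, Subgroup.mem_bot] at h2
        exact Equiv.congr_fun (congrArg Subtype.val h2) Q
      haveI : Subsingleton (Sylow 17 G) := ⟨fun Q Q' => (hker Q).symm.trans (hker Q')⟩
      rw [Nat.card_of_subsingleton P] at h18
      norm_num at h18
    · rw [hj, pow_one]
  haveI : IsCyclic U := isCyclic_of_prime_card hU.out
  obtain ⟨⟨u, hu⟩, hgen⟩ := IsCyclic.exists_ofOrder_eq_natCard (α := U)
  rw [hU.out, ← Subgroup.orderOf_coe] at hgen
  have hUu : Subgroup.zpowers u = U :=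
    Subgroup.eq_of_le_of_card_ge (Subgroup.zpowers_le.2 hu) (by rw [Nat.card_zpowers, hU.out, hgen])
  refine ⟨u, hgen, ?_, fun g hg => ?_⟩
  · obtain ⟨x, hx, rfl⟩ := hu
    exact Sylow.smul_eq_iff_mem_normalizer.2 (Subgroup.le_normalizer hx)
  · obtain ⟨x, hx, rfl⟩ := hu
    obtain ⟨n, rfl⟩ := (toPermHom G (Sylow 17 G)).rangeRestrict_surjective g
    have hn : n ∈ Subgroup.normalizer ((P : Subgroup G) : Set G) :=
      Sylow.smul_eq_iff_mem_normalizer.1 hg
    rw [hUu]
    exact ⟨n * x * n⁻¹, ((Subgroup.mem_normalizer_iff.1 hn) x).1 hx, by rw [map_mul, map_mul, map_inv]⟩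

/-- the Sylow number of an image divides the Sylow number -/
theorem card_sylow_dvd_of_surjective {p : ℕ} [Fact p.Prime] {H : Type*} [Group H] [Finite H]
    {f : G →* H} (hf : Function.Surjective f) : Nat.card (Sylow p H) ∣ Nat.card (Sylow p G) := by
  obtain ⟨P⟩ : Nonempty (Sylow p G) := inferInstance
  rw [(P.mapSurjective hf).card_eq_index_normalizer, P.card_eq_index_normalizer]
  refine dvd_trans (Subgroup.index_dvd_of_le ?_) (Subgroup.index_map_dvd _ hf)
  exact Subgroup.le_normalizer_map (H := (P : Subgroup G)) f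

/-- equal Sylow numbers: the kernel normalises every Sylow subgroup -/
theorem smul_eq_of_card_eq {p : ℕ} [Fact p.Prime] {H : Type*} [Group H] [Finite H]
    {f : G →* H} (hf : Function.Surjective f) (h : Nat.card (Sylow p H) = Nat.card (Sylow p G))
    {k : G} (hk : f k = 1) (S : Sylow p G) : k • S = S := by
  have hb := (Nat.bijective_iff_surjective_and_card _).2 ⟨Sylow.mapSurjective_surjective hf p, h.symm⟩
  refine hb.1 (Sylow.ext ?_)
  rw [Sylow.coe_mapSurjective, Sylow.coe_mapSurjective, Sylow.coe_subgroup_smul]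
  ext y
  simp only [Subgroup.mem_map, Subgroup.mem_pointwise_smul_iff_inv_smul_mem]
  constructor
  · rintro ⟨x, hx, rfl⟩
    exact ⟨_, hx, by simp [MulAut.smul_def, hk]⟩
  · rintro ⟨x, hx, rfl⟩
    exact ⟨k * x * k⁻¹, by simpa [MulAut.smul_def, mul_assoc] using hx, by simp [hk]⟩

/-- a normal subgroup normalising every Sylow subgroup meets all of them in the same subgroup -/
theorem inf_sylow_le {p : ℕ} [Fact p.Prime] (K : Subgroup G)
    (hK : ∀ k ∈ K, ∀ S : Sylow p G, k • S = S) (S S' : Sylow p G) :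
    K ⊓ (S' : Subgroup G) ≤ S := by
  have h : K ⊓ (S' : Subgroup G) ≤ Subgroup.normalizer ((S : Subgroup G) : Set G) := fun x hx =>
    Sylow.smul_eq_iff_mem_normalizer.1 (hK x hx.1 S)
  exact (le_inf le_rfl h).trans (((S'.isPGroup'.to_le inf_le_right).inf_normalizer_sylow S).le.trans inf_le_right)

theorem inf_sylow_normal {p : ℕ} [Fact p.Prime] (K : Subgroup G) [K.Normal]
    (hK : ∀ k ∈ K, ∀ S : Sylow p G, k • S = S) (S : Sylow p G) :
    (K ⊓ (S : Subgroup G)).Normal := by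
  refine ⟨fun x hx g => ⟨Subgroup.Normal.conj_mem ‹_› x hx.1 g, ?_⟩⟩
  refine inf_sylow_le K hK S (g • S) ⟨Subgroup.Normal.conj_mem ‹_› x hx.1 g, ?_⟩
  show g * x * g⁻¹ ∈ (((g • S : Sylow p G)) : Subgroup G)
  rw [Sylow.coe_subgroup_smul]
  exact ⟨x, hx.2, by simp⟩

theorem not_dvd_index_inf_sylow {p : ℕ} [Fact p.Prime] (K : Subgroup G)
    (hK : ∀ k ∈ K, ∀ S : Sylow p G, k • S = S) (S : Sylow p G) :
    ¬ p ∣ ((K ⊓ (S : Subgroup G)).subgroupOf K).index := by
  intro hd
  obtain ⟨P⟩ : Nonempty (Sylow p K) := inferInstance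
  obtain ⟨S', hS'⟩ := (P.isPGroup'.map K.subtype).exists_le_sylow
  refine P.not_dvd_index (hd.trans (Subgroup.index_dvd_of_le fun x hx => ?_))
  refine ⟨x.2, inf_sylow_le K hK S S' ⟨x.2, hS' ?_⟩⟩
  exact ⟨x, hx, rfl⟩

/-- a normal subgroup containing the Sylow `r`-subgroups and with a normal Sylow 17-subgroup -/
theorem not_dvd_card_sylow [Fact (Nat.Prime 17)] {r : ℕ} [Fact r.Prime] (hr : r = 5 ∨ r = 19)
    (K : Subgroup G) [K.Normal] (hK : ∀ k ∈ K, ∀ S : Sylow 17 G, k • S = S)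
    (hle : ∀ Q : Sylow r G, (Q : Subgroup G) ≤ K) (hbd : Nat.card (Sylow r G) ≤ 153) :
    ¬ 17 ∣ Nat.card (Sylow r G) := by
  classical
  obtain ⟨S⟩ : Nonempty (Sylow 17 G) := inferInstance
  obtain ⟨Q⟩ : Nonempty (Sylow r G) := inferInstance
  set N := K ⊓ (S : Subgroup G)
  haveI hN : N.Normal := inf_sylow_normal K hK S
  let O : SubMulAction (Q : Subgroup G) (Sylow r G) :=
    { carrier := orbit N Q
      smul_mem' := by
        rintro ⟨q, hq⟩ _ ⟨⟨n, hn⟩, rfl⟩
        refine ⟨⟨q * n * q⁻¹, hN.conj_mem n hn q⟩, ?_⟩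
        show (q * n * q⁻¹) • Q = q • n • Q
        rw [mul_smul, mul_smul]
        congr 2
        exact Sylow.smul_eq_iff_mem_normalizer.2 (Subgroup.le_normalizer (inv_mem hq)) }
  have hcardO : Nat.card O = Nat.card (orbit N Q) := rfl
  have hfix : Nat.card (fixedPoints (Q : Subgroup G) O) = 1 := by
    refine Nat.card_eq_one_iff_exists.2 ⟨⟨⟨Q, mem_orbit_self Q⟩, fun q => Subtype.ext ?_⟩, fun T => ?_⟩
    · exact Sylow.smul_eq_iff_mem_normalizer.2 (Subgroup.le_normalizer q.2)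
    · obtain ⟨⟨T, hT⟩, hTf⟩ := T
      refine Subtype.ext (Subtype.ext (sylow_eq_of_le_normalizer (P := Q) (Q := T) fun q hq => ?_).symm)
      exact Sylow.smul_eq_iff_mem_normalizer.1 (congrArg Subtype.val (hTf ⟨q, hq⟩))
  have hmod := Q.isPGroup'.card_modEq_card_fixedPoints (α := O)
  rw [hfix, hcardO] at hmod
  obtain ⟨m, hm⟩ := (S.isPGroup'.to_le (inf_le_right : N ≤ S)).card_orbit Q
  have hle17 : Nat.card (orbit N Q) ≤ 153 :=
    (Nat.card_le_card_of_injective _ Subtype.val_injective).trans hbd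
  rw [hm] at hmod hle17
  have hm1 : m ≤ 1 := by
    by_contra hh
    have := Nat.pow_le_pow_right (show 0 < 17 by norm_num) (show 2 ≤ m by omega)
    omega
  have hm0 : m = 0 := by
    interval_cases m
    · rfl
    · rcases hr with rfl | rfl <;> exact absurd hmod (by decide)
  have hNQ : ∀ n ∈ N, n • Q = Q := fun n hn => by
    obtain ⟨T, hT⟩ := Nat.card_eq_one_iff_exists.1 (show Nat.card (orbit N Q) = 1 by rw [hm, hm0, pow_zero])
    exact congrArg Subtype.val ((hT ⟨n • Q, mem_orbit Q (⟨n, hn⟩ : N)⟩).trans (hT ⟨Q, mem_orbit_self Q⟩).symm)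
  haveI : IsPretransitive K (Sylow r G) := ⟨fun A B => by
    obtain ⟨k, hk⟩ := exists_smul_eq K (A.subtype (hle A)) (B.subtype (hle B))
    exact ⟨k, Sylow.subtype_injective (hP := hle (k • A)) (hQ := hle B) (by rw [← hk, Sylow.smul_subtype])⟩⟩
  intro h
  rw [← index_stabilizer_of_transitive (G := K) Q] at h
  refine not_dvd_index_inf_sylow K hK S (h.trans (Subgroup.index_dvd_of_le fun x hx => ?_))
  exact hNQ x hx

/-- the kernel is trivial -/
theorem eq_bot_of_normalises (hZ : Subgroup.center G = ⊥) (K : Subgroup G) [K.Normal]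
    (hK : ∀ r : ℕ, r.Prime → r ∣ Nat.card G → ∀ k ∈ K, ∀ S : Sylow r G, k • S = S) : K = ⊥ := by
  classical
  by_contra hne
  obtain ⟨s, hs, hsd⟩ := Nat.exists_prime_and_dvd
    (show Nat.card K ≠ 1 from fun h => hne (Subgroup.eq_bot_of_card_eq _ h))
  haveI := Fact.mk hs
  have hsG : s ∣ Nat.card G := hsd.trans K.card_subgroup_dvd_card
  obtain ⟨S⟩ : Nonempty (Sylow s G) := inferInstance
  set N := K ⊓ (S : Subgroup G)
  haveI hN : N.Normal := inf_sylow_normal K (hK s hs hsG) S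
  have hN1 : N.subgroupOf S ≠ ⊥ := by
    intro h
    rw [Subgroup.subgroupOf_eq_bot, disjoint_iff, inf_eq_left.2 (inf_le_right : N ≤ S)] at h
    have := not_dvd_index_inf_sylow K (hK s hs hsG) S
    apply this
    rw [h, Subgroup.bot_subgroupOf, Subgroup.index_bot]
    exact hsd
  haveI : Group.IsNilpotent (S : Subgroup G) := S.isPGroup'.isNilpotent
  obtain ⟨⟨z, hzS⟩, ⟨hzN, hzc⟩, hz1⟩ :
      ∃ z, z ∈ N.subgroupOf S ⊓ Subgroup.center (S : Subgroup G) ∧ z ≠ 1 := by
    by_contra hall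
    exact Cores.inf_center_ne_bot hN1 ((Subgroup.eq_bot_iff_forall _).2 fun y hy =>
      by_contra fun h1 => hall ⟨y, hy, h1⟩)
  have hcen : Subgroup.centralizer ({z} : Set G) = ⊤ := by
    rw [← Subgroup.index_eq_one]
    refine Nat.eq_one_iff_not_exists_prime_dvd.2 fun r hr hd => ?_
    haveI := Fact.mk hr
    have hrG : r ∣ Nat.card G := hd.trans (Subgroup.index_dvd_card _)
    by_cases hrs : r = s
    · subst hrs
      refine S.not_dvd_index (hd.trans (Subgroup.index_dvd_of_le fun y hy => ?_))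
      rw [Subgroup.mem_centralizer_singleton_iff]
      exact congrArg Subtype.val ((Subgroup.mem_center_iff.1 hzc) ⟨y, hy⟩)
    · obtain ⟨R⟩ : Nonempty (Sylow r G) := inferInstance
      refine R.not_dvd_index (hd.trans (Subgroup.index_dvd_of_le fun y hy => ?_))
      rw [Subgroup.mem_centralizer_singleton_iff]
      have hzR : z ∈ Subgroup.normalizer ((R : Subgroup G) : Set G) :=
        Sylow.smul_eq_iff_mem_normalizer.1 (hK r hr hrG z hzN.1 R)
      have h1 : z * y * z⁻¹ * y⁻¹ ∈ N := by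
        rw [show z * y * z⁻¹ * y⁻¹ = z * (y * z⁻¹ * y⁻¹) by group]
        exact mul_mem hzN (hN.conj_mem _ (inv_mem hzN) y)
      have h2 : z * y * z⁻¹ * y⁻¹ ∈ (R : Subgroup G) :=
        mul_mem ((Subgroup.mem_normalizer_iff.1 hzR y).1 hy) (inv_mem hy)
      have h3 := Subgroup.disjoint_def.1 (IsPGroup.disjoint_of_ne r s hrs (R : Subgroup G) S
        R.isPGroup' S.isPGroup') h2 (inf_le_right (a := K) h1)
      calc y * z = (z * y * z⁻¹ * y⁻¹) * (y * z) := by rw [h3, one_mul]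
        _ = z * y := by group
  have : z ∈ Subgroup.center G := Subgroup.mem_center_iff.2 fun y => by
    exact Subgroup.mem_centralizer_singleton_iff.1 (hcen ▸ Subgroup.mem_top y)
  rw [hZ, Subgroup.mem_bot] at this
  exact hz1 (Subtype.ext this)

/-- recognition by Sylow numbers -/
theorem iso_of_sylow_numbers (hZ : Subgroup.center G = ⊥)
    (hNS : {c : ℕ | ∃ r : ℕ, r.Prime ∧ r ∣ Nat.card G ∧ c = Nat.card (Sylow r G)} =
      ({18, 136, 153} : Set ℕ)) :
    Nonempty (G ≃* Matrix.ProjectiveSpecialLinearGroup (Fin 2) (ZMod 17)) ∨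
      Nonempty (G ≃* Matrix.ProjGenLinGroup (Fin 2) (ZMod 17)) := by
  classical
  obtain ⟨h17, h2, h3, hprimes⟩ := sylow_numbers hNS
  haveI : Fact (Nat.Prime 17) := ⟨by norm_num⟩
  haveI : Fact (Nat.Prime 2) := ⟨Nat.prime_two⟩
  haveI : Fact (Nat.Prime 3) := ⟨Nat.prime_three⟩
  have hL := line_image h17
  obtain ⟨a, b, hab⟩ : ∃ a b : Sylow 17 G, a ≠ b := by
    haveI : Nontrivial (Sylow 17 G) := Finite.one_lt_card_iff_nontrivial.1 (by omega)
    exact exists_pair_ne _
  set f := (toPermHom G (Sylow 17 G)).rangeRestrict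
  have hf : Function.Surjective f := MonoidHom.rangeRestrict_surjective _
  have hk17 : ∀ k ∈ f.ker, ∀ S : Sylow 17 G, k • S = S := fun k hk S =>
    Equiv.congr_fun (congrArg Subtype.val (MonoidHom.mem_ker.1 hk)) S
  have hK : ∀ r : ℕ, r.Prime → r ∣ Nat.card G → ∀ k ∈ f.ker, ∀ S : Sylow r G, k • S = S := by
    intro r hr hd
    rcases hprimes r hr hd with rfl | rfl | rfl | ⟨h519, h17r, hbd⟩
    · exact fun k hk => smul_eq_of_card_eq hf ((hL.card_sylow_two hab).trans h2.symm) (MonoidHom.mem_ker.1 hk)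
    · exact fun k hk => smul_eq_of_card_eq hf ((hL.card_sylow_three hab
        (h3 ▸ card_sylow_dvd_of_surjective hf)).trans h3.symm) (MonoidHom.mem_ker.1 hk)
    · exact hk17
    · exfalso
      haveI := Fact.mk hr
      refine not_dvd_card_sylow h519 f.ker hk17 (fun Q => ?_) hbd h17r
      rw [← Subgroup.map_eq_bot_iff]
      obtain ⟨j, hj⟩ := IsPGroup.iff_card.1 (Q.isPGroup'.map f)
      refine Subgroup.eq_bot_of_card_eq _ ?_
      rcases Nat.eq_zero_or_pos j with rfl | hj0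
      · rw [hj, pow_zero]
      exfalso
      have h1 : r ∣ 306 * Nat.card (two (toPermHom G (Sylow 17 G)).range a b) := by
        rw [← hL.card_group hab]
        exact ((dvd_pow_self r hj0.ne').trans hj.symm.dvd).trans (Subgroup.card_subgroup_dvd_card _)
      have h2 := h1.trans (mul_dvd_mul_left 306 (hL.two_cyclic hab).2)
      rcases h519 with rfl | rfl <;> norm_num at h2
  have hker := eq_bot_of_normalises hZ f.ker hK
  let e := MulEquiv.ofBijective f ⟨(MonoidHom.ker_eq_bot_iff f).1 hker, hf⟩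
  rcases hL.iso hab with ⟨-, ⟨g⟩⟩ | ⟨-, ⟨g⟩⟩
  · exact Or.inl ⟨e.trans g⟩
  · exact Or.inr ⟨e.trans g⟩

end Cfsg.Agent.Recognition.LineEighteen
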